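import Groth.Agent.LC.GorDualizing
import Groth.Agent.PerfGen7.DualSchCM
import Groth.Prelude.Def_Dual3
import Groth.Agent.S1827

/-! Gorenstein schemes on affine opens; local complete intersections over Gorenstein schemes. -/

set_option autoImplicit false
set_option linter.style.haveILetI false
set_option backward.isDefEq.respectTransparency false
set_option backward.isDefEq.respectTransparency.types false

universe u

open CategoryTheory CategoryTheory.Limits AlgebraicGeometry

namespace Groth.Agent.Dual3Gor7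

variable {X : Scheme.{u}}

theorem gor_localization_iff_stalk {U : X.Opens} (hU : IsAffineOpen U) [IsNoetherianRing Γ(X, U)]
    {x : X} (hx : x ∈ U) :
    LocCoh.IsGorensteinLocalRing (Localization.AtPrime (hU.primeIdealOf ⟨x, hx⟩).asIdeal) ↔
      LocCoh.IsGorensteinLocalRing (X.presheaf.stalk x) := by
  letI := TopCat.Presheaf.algebra_section_stalk X.presheaf (U := U) ⟨x, hx⟩
  haveI := hU.isLocalization_stalk ⟨x, hx⟩
  let e : Localization.AtPrime (hU.primeIdealOf ⟨x, hx⟩).asIdeal ≃+* X.presheaf.stalk x :=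
    (IsLocalization.algEquiv (hU.primeIdealOf ⟨x, hx⟩).asIdeal.primeCompl
      (Localization.AtPrime (hU.primeIdealOf ⟨x, hx⟩).asIdeal) (X.presheaf.stalk x)).toRingEquiv
  haveI : IsNoetherianRing (X.presheaf.stalk x) :=
    isNoetherianRing_of_ringEquiv (Localization.AtPrime (hU.primeIdealOf ⟨x, hx⟩).asIdeal) e
  exact ⟨fun h => LC.gorenstein_of_ringEquiv e, fun h => LC.gorenstein_of_ringEquiv e.symm⟩

theorem isGorensteinRing_gamma (hX : Dual3.IsGorenstein X) (U : X.affineOpens) :
    LocCoh.IsGorensteinRing Γ(X, U.1) := by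
  haveI := hX.1
  haveI : IsNoetherianRing Γ(X, U.1) := IsLocallyNoetherian.component_noetherian U
  refine ⟨fun p hp => ?_⟩
  let q : PrimeSpectrum Γ(X, U.1) := ⟨p, hp⟩
  have hx : U.2.fromSpec q ∈ U.1 := by
    have := U.2.range_fromSpec
    exact this.le ⟨q, rfl⟩
  have he : U.2.primeIdealOf ⟨U.2.fromSpec q, hx⟩ = q :=
    U.2.fromSpec.isOpenEmbedding.injective (U.2.fromSpec_primeIdealOf ⟨U.2.fromSpec q, hx⟩)
  have := (gor_localization_iff_stalk U.2 hx).2 (hX.2 _)
  rw [he] at this
  exact this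

theorem isGorenstein_of_cover [IsLocallyNoetherian X]
    (h : ∀ x : X, ∃ U : X.affineOpens, x ∈ U.1 ∧ LocCoh.IsGorensteinRing Γ(X, U.1)) :
    Dual3.IsGorenstein X := by
  refine ⟨inferInstance, fun x => ?_⟩
  obtain ⟨U, hx, hU⟩ := h x
  haveI : IsNoetherianRing Γ(X, U.1) := IsLocallyNoetherian.component_noetherian U
  haveI := hU
  exact (gor_localization_iff_stalk U.2 hx).1 (LocCoh.IsGorensteinRing.isGorensteinLocalRing_localization _)

theorem isGorenstein_of_lci {Y : Scheme.{u}} (f : Y ⟶ X) (hf : Dual3.IsLCIMor f)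
    (hX : Dual3.IsGorenstein X) : Dual3.IsGorenstein Y := by
  have key : ∀ y : Y, ∃ U : Y.affineOpens, y ∈ U.1 ∧ LocCoh.IsGorensteinRing Γ(Y, U.1) := by
    intro y
    obtain ⟨U, V, e, hy, hl⟩ := hf y
    refine ⟨U, hy, ?_⟩
    letI := (f.appLE V.1 U.1 e).hom.toAlgebra
    exact Groth.Agent.S1827.result Γ(X, V.1) Γ(Y, U.1) (isGorensteinRing_gamma hX V) hl
  haveI : IsLocallyNoetherian Y := by
    choose U hU hG using key
    exact (isLocallyNoetherian_iff_of_iSup_eq_top (S := U)
      (top_le_iff.1 fun y _ => TopologicalSpace.Opens.mem_iSup.2 ⟨y, hU y⟩)).2 fun y => haveI := hG y; inferInstance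
  exact isGorenstein_of_cover key

end Groth.Agent.Dual3Gor7
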