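import Groth.Agent.Dual3Gor7.Basic
import Groth.Agent.DualCover7.Main
import Groth.Agent.PerfGen7.RankOne
import Groth.Agent.PerfGen7.GorLocus
import Groth.Agent.KFlatLib.Ring.InvertibleTwist
import Groth.Agent.KFlatLib.Ring.DualizingDimension
import Groth.Agent.S0371
import Groth.Agent.S1775
import Groth.Agent.KFlatLib.Scheme.LocalDevissage

/-! Dualizing complexes on Gorenstein schemes. -/

set_option autoImplicit false
set_option linter.style.haveILetI false
set_option backward.isDefEq.respectTransparency false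
set_option backward.isDefEq.respectTransparency.types false

universe u

open CategoryTheory CategoryTheory.Limits AlgebraicGeometry Groth.Agent.KFlatLib

attribute [local instance] HasDerivedCategory.standard

namespace Groth.Agent.Dual3Gor7

open PerfGen7 in
/-- A Gorenstein ring with a dualizing complex is its own dualizing complex. -/
theorem isDualizing_self {A : Type u} [CommRing A] [IsNoetherianRing A]
    (hA : ∀ p : PrimeSpectrum A, LocCoh.IsGorensteinLocalRing (Localization.AtPrime p.asIdeal))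
    {ω : Dual.D A} (hω : Dual.IsDualizing A ω) : Dual.IsDualizing A (Dual.inD A A) := by
  obtain ⟨h1, ⟨h2⟩⟩ := GorLocus.exists_hd_shift_inD (B := A) A 0
  let e0 := (shiftFunctorZero (Dual.D A) ℤ).app (Dual.inD A A)
  have hfin : ∀ i : ℤ, Module.Finite A (Dual.HD A (Dual.inD A A) i) := fun i => by
    let eH := ((DerivedCategory.homologyFunctor (ModuleCat.{u} A) i).mapIso e0).toLinearEquiv
    by_cases hi : i = -0
    · subst hi
      exact Module.Finite.equiv (h2.symm.trans eH)
    · haveI := h1 i hi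
      haveI : Module.Finite A (Dual.HD A ((Dual.inD A A)⟦(0 : ℤ)⟧) i) := inferInstance
      exact Module.Finite.equiv eH
  haveI : (Dual.inD A A).IsGE 0 := by
    show DerivedCategory.IsGE ((DerivedCategory.singleFunctor (ModuleCat.{u} A) 0).obj _) 0
    infer_instance
  have hloc : ∀ p : PrimeSpectrum A, ∀ [DTen.HasLBase (algebraMap A (Localization.AtPrime p.asIdeal))],
      Dual.IsDualizing (Localization.AtPrime p.asIdeal)
        ((DTen.LBase (algebraMap A (Localization.AtPrime p.asIdeal))).obj (Dual.inD A A)) := fun p _ => by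
    haveI : IsNoetherianRing (Localization.AtPrime p.asIdeal) :=
      IsLocalization.isNoetherianRing p.asIdeal.primeCompl _ inferInstance
    obtain ⟨u⟩ := nonempty_LBase_unit (algebraMap A (Localization.AtPrime p.asIdeal))
    exact isDualizing_of_iso ((RankOne.unitIso _) ≪≫ u.symm ≪≫
      (DTen.LBase _).mapIso (RankOne.unitIso A).symm) (LC.gorenstein_iff_isDualizing _ |>.1 (hA p))
  obtain ⟨b, hb⟩ := exists_injAmplitude_of_local (Groth.Agent.S0371.result A ω hω) 0 hfin hloc
  exact isDualizing_of_atPrime hb hfin hloc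

/-- A ring whose shifted self is dualizing has Gorenstein local rings. -/
theorem gorenstein_of_isDualizing_self {A : Type u} [CommRing A] [IsNoetherianRing A]
    (h : Dual.IsDualizing A (Dual.inD A A)) (p : PrimeSpectrum A) :
    LocCoh.IsGorensteinLocalRing (Localization.AtPrime p.asIdeal) := by
  haveI : IsNoetherianRing (Localization.AtPrime p.asIdeal) :=
    IsLocalization.isNoetherianRing p.asIdeal.primeCompl _ inferInstance
  haveI : DRing.HasLBaseChange (algebraMap A (Localization p.asIdeal.primeCompl)) :=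
    H9Misc.DRingLBase.hasLBaseChange _
  have h' := Groth.Agent.S1775.result A p.asIdeal.primeCompl (Dual.inD A A) h
  haveI := KFlatLib.hasLBase (algebraMap A (Localization p.asIdeal.primeCompl))
  obtain ⟨eL⟩ := KFlatLib.nonempty_LBaseChange_iso (algebraMap A (Localization p.asIdeal.primeCompl))
  obtain ⟨u⟩ := nonempty_LBase_unit (algebraMap A (Localization p.asIdeal.primeCompl))
  exact (LC.gorenstein_iff_isDualizing _).2 (isDualizing_of_iso (eL.app _ ≪≫ (DTen.LBase _).mapIso (PerfGen7.RankOne.unitIso A) ≪≫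
    u ≪≫ (PerfGen7.RankOne.unitIso _).symm) h')

/-- A dualizing complex of a Gorenstein ring is locally the shifted ring. -/
theorem exists_away {A : Type u} [CommRing A] [IsNoetherianRing A] {ω : Dual.D A}
    (hω : Dual.IsDualizing A ω) (p : PrimeSpectrum A)
    (hp : LocCoh.IsGorensteinLocalRing (Localization.AtPrime p.asIdeal)) :
    ∃ f : A, f ∉ p.asIdeal ∧ ∃ m : ℤ, ∀ [DTen.HasLBase (algebraMap A (Localization.Away f))],
      Nonempty ((DTen.LBase (algebraMap A (Localization.Away f))).obj ω ≅ (DTen.unit _)⟦m⟧) := by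
  haveI : IsNoetherianRing (Localization.AtPrime p.asIdeal) :=
    IsLocalization.isNoetherianRing p.asIdeal.primeCompl _ inferInstance
  haveI : DRing.HasLBaseChange (algebraMap A (Localization p.asIdeal.primeCompl)) :=
    H9Misc.DRingLBase.hasLBaseChange _
  have hωp := Groth.Agent.S1775.result A p.asIdeal.primeCompl ω hω
  haveI := KFlatLib.hasLBase (algebraMap A (Localization p.asIdeal.primeCompl))
  obtain ⟨eL⟩ := KFlatLib.nonempty_LBaseChange_iso (algebraMap A (Localization p.asIdeal.primeCompl))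
  haveI := hasLTen (Localization.AtPrime p.asIdeal)
  haveI := hasRHom (A := Localization.AtPrime p.asIdeal)
  obtain ⟨k, ⟨e⟩⟩ := exists_iso_shift_of_isDualizing ((LC.gorenstein_iff_isDualizing _).1 hp)
    (isDualizing_of_iso (eL.app ω) hωp)
  obtain ⟨a, b, -, _, _⟩ := exists_bounds_of_isDualizing hω
  obtain ⟨f, hf, hiso⟩ := PerfGen7.RankOne.exists_away ω a b hω.finite_cohomology p.asIdeal (m := k)
    ⟨e ≪≫ (shiftFunctor _ k).mapIso (PerfGen7.RankOne.unitIso _)⟩
  exact ⟨f, hf, k, fun {_} => hiso⟩

variable {X : Scheme.{u}}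
  [∀ (R : CommRingCat.{u}), PreservesFiniteLimits (tilde.functor R)]

/-- The structure sheaf restricted to an affine chart is the tilde of the ring. -/
theorem nonempty_structure_restrict {A : Type u} [CommRing A] (j : Spec (CommRingCat.of A) ⟶ X)
    [IsOpenImmersion j] :
    Nonempty ((rho j).obj (DCoh.inD X (Coh.structureModule X)) ≅
      (DCoh.tildeD (CommRingCat.of A)).obj (Dual.inD A A)) :=
  haveI : (tilde.functor (CommRingCat.of A)).Additive := KFlatLib.tilde_additive _
  haveI : PreservesFiniteColimits (tilde.functor (CommRingCat.of A)) := QCoh.tilde_preservesFiniteColimits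
  ⟨((Scheme.Modules.restrictFunctor j).mapDerivedCategorySingleFunctor 0).app _ ≪≫
    (DerivedCategory.singleFunctor _ 0).mapIso (restrictStructureIso j ≪≫ tildeSelf.symm) ≪≫
    (((tilde.functor (CommRingCat.of A)).mapDerivedCategorySingleFunctor 0).app (ModuleCat.of A A)).symm⟩

/-- Shifts commute with restriction to a chart. -/
theorem nonempty_structure_shift_restrict {A : Type u} [CommRing A] (j : Spec (CommRingCat.of A) ⟶ X)
    [IsOpenImmersion j] (n : ℤ) :
    Nonempty ((rho j).obj ((DCoh.inD X (Coh.structureModule X))⟦n⟧) ≅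
      (DCoh.tildeD (CommRingCat.of A)).obj ((Dual.inD A A)⟦n⟧)) := by
  obtain ⟨e⟩ := nonempty_structure_restrict j
  exact ⟨((rho j).commShiftIso n).app _ ≪≫ (shiftFunctor _ n).mapIso e ≪≫
    (((DCoh.tildeD (CommRingCat.of A)).commShiftIso n).app _).symm⟩

variable [∀ (U : Scheme.{u}) (j : U ⟶ X) [IsOpenImmersion j], PreservesFiniteLimits (Scheme.Modules.restrictFunctor j)]

theorem isDualizingSch_structure (hX : Dual3.IsGorenstein X) {K : DCoh.D X}
    (hK : Dual2.IsDualizingSch X K) : Dual2.IsDualizingSch X (DCoh.inD X (Coh.structureModule X)) := by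
  haveI := hX.1
  intro A _ j _
  obtain ⟨ω, hω, -⟩ := hK A j
  haveI := hω.isNoetherianRing
  obtain ⟨e⟩ := nonempty_structure_restrict j
  refine ⟨Dual.inD A A, isDualizing_self (fun p => ?_) hω, ⟨e⟩⟩
  let e₁ : X.presheaf.stalk (j.base p) ≃+* (Spec (CommRingCat.of A)).presheaf.stalk p :=
    (asIso (j.stalkMap p)).commRingCatIsoToRingEquiv
  let e₂ : Localization.AtPrime p.asIdeal ≃+* (Spec (CommRingCat.of A)).presheaf.stalk p :=
    (StructureSheaf.stalkIso A p).toRingEquiv
  haveI : IsNoetherianRing (Localization.AtPrime p.asIdeal) :=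
    IsLocalization.isNoetherianRing p.asIdeal.primeCompl _ inferInstance
  haveI := hX.2 (j.base p)
  exact LC.gorenstein_of_ringEquiv (e₁.trans e₂.symm)

theorem isGorenstein_iff_invertible [IsLocallyNoetherian X] {K : DCoh.D X} (hK : Dual2.IsDualizingSch X K) :
    Dual3.IsGorenstein X ↔ Dual3.IsInvertibleD K := by
  have hchart : ∀ x : X, ∃ (R : CommRingCat.{u}) (_ : IsNoetherianRing R) (j : Spec R ⟶ X) (_ : IsOpenImmersion j)
      (p : Spec R), j.base p = x ∧ (LocCoh.IsGorensteinLocalRing (X.presheaf.stalk x) ↔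
        LocCoh.IsGorensteinLocalRing (Localization.AtPrime p.asIdeal)) := fun x => by
    obtain ⟨R, hR, j, hj, ⟨p, hp⟩⟩ := exists_chart x
    refine ⟨R, hR, j, hj, p, hp, ?_⟩
    subst hp
    let e₁ : X.presheaf.stalk (j.base p) ≃+* (Spec R).presheaf.stalk p :=
      (asIso (j.stalkMap p)).commRingCatIsoToRingEquiv
    let e₂ : Localization.AtPrime p.asIdeal ≃+* (Spec R).presheaf.stalk p :=
      (StructureSheaf.stalkIso R p).toRingEquiv
    haveI : IsNoetherianRing (Localization.AtPrime p.asIdeal) :=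
      IsLocalization.isNoetherianRing p.asIdeal.primeCompl _ inferInstance
    haveI : IsNoetherianRing (X.presheaf.stalk (j.base p)) :=
      isNoetherianRing_of_ringEquiv _ (e₂.trans e₁.symm)
    exact ⟨fun h => LC.gorenstein_of_ringEquiv (e₁.trans e₂.symm),
      fun h => LC.gorenstein_of_ringEquiv (e₂.trans e₁.symm)⟩
  constructor
  · intro hX x
    obtain ⟨R, hR, j, hj, p, hp, hgor⟩ := hchart x
    obtain ⟨ω, hω, ⟨e⟩⟩ := hK R j
    obtain ⟨f, hf, m, hm⟩ := exists_away hω p (hgor.1 (hX.2 x))
    let φ := algebraMap R (Localization.Away f)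
    haveI := KFlatLib.hasLBase φ
    haveI : DRing.HasLBaseChange φ := H9Misc.DRingLBase.hasLBaseChange φ
    obtain ⟨eL⟩ := KFlatLib.nonempty_LBaseChange_iso φ
    obtain ⟨i⟩ := hm
    haveI : IsOpenImmersion (Spec.map (CommRingCat.ofHom φ)) := IsOpenImmersion.of_isLocalization f
    obtain ⟨t⟩ := DualCover7.nonempty_tilde_rho φ ω
    let g : Spec (CommRingCat.of (Localization.Away f)) ⟶ X := Spec.map (CommRingCat.ofHom φ) ≫ j
    let U : X.Opens := g.opensRange
    let k : (U : Scheme.{u}) ⟶ Spec (CommRingCat.of (Localization.Away f)) := g.isoOpensRange.inv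
    have hk : k ≫ g = U.ι := g.isoOpensRange_inv_comp
    refine ⟨U, m, ?_, ?_⟩
    · have hm' : p ∈ Set.range (Spec.map (CommRingCat.ofHom φ)).base := by
        show p ∈ Set.range (PrimeSpectrum.comap φ)
        rw [PrimeSpectrum.localization_away_comap_range (Localization.Away f) f]
        exact hf
      obtain ⟨q, hq⟩ := hm'
      exact ⟨q, by show j.base ((Spec.map (CommRingCat.ofHom φ)).base q) = x; rw [hq, hp]⟩
    · obtain ⟨s⟩ := nonempty_structure_shift_restrict g m
      let a : (rho g).obj K ≅ (rho g).obj ((DCoh.inD X (Coh.structureModule X))⟦m⟧) :=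
        (rhoComp (Spec.map (CommRingCat.ofHom φ)) j g rfl K).symm ≪≫ (rho _).mapIso e ≪≫ t.symm ≪≫
          (DCoh.tildeD _).mapIso (eL.app ω ≪≫ i ≪≫ (shiftFunctor _ m).mapIso (PerfGen7.RankOne.unitIso _).symm) ≪≫
          s.symm
      exact ⟨(rhoComp k g U.ι hk K).symm ≪≫ (rho k).mapIso a ≪≫ rhoComp k g U.ι hk _ ≪≫
        ((rho U.ι).commShiftIso m).app _ ≪≫ (shiftFunctor _ m).mapIso
          (((Scheme.Modules.restrictFunctor U.ι).mapDerivedCategorySingleFunctor 0).app _ ≪≫
            (DerivedCategory.singleFunctor _ 0).mapIso (restrictStructureIso U.ι))⟩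
  · intro h
    refine ⟨inferInstance, fun x => ?_⟩
    obtain ⟨U, n, hxU, ⟨eU⟩⟩ := h x
    obtain ⟨_, ⟨V, hV, rfl⟩, hxV, hVU⟩ := X.isBasis_affineOpens.exists_subset_of_mem_open hxU U.2
    let j : Spec Γ(X, V) ⟶ X := hV.fromSpec
    haveI : IsNoetherianRing Γ(X, V) := IsLocallyNoetherian.component_noetherian ⟨V, hV⟩
    obtain ⟨ω, hω, ⟨e⟩⟩ := hK Γ(X, V) j
    have hr : Set.range j.base ⊆ Set.range U.ι.base := by
      rw [show Set.range j.base = (V : Set X) from hV.range_fromSpec, Scheme.Opens.range_ι]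
      exact hVU
    let l := IsOpenImmersion.lift U.ι j hr
    have hl : l ≫ U.ι = j := IsOpenImmersion.lift_fac _ _ _
    haveI : IsOpenImmersion (l ≫ U.ι) := by rw [hl]; infer_instance
    haveI : IsOpenImmersion l := IsOpenImmersion.of_comp l U.ι
    obtain ⟨s⟩ := nonempty_structure_shift_restrict l n
    obtain ⟨c⟩ := DualCover7.nonempty_iso_of_tilde Γ(X, V)
      (e.symm ≪≫ (rhoComp l U.ι j hl K).symm ≪≫ (rho l).mapIso eU ≪≫ s)
    have hd : Dual.IsDualizing Γ(X, V) (Dual.inD Γ(X, V) Γ(X, V)) :=
      isDualizing_of_iso ((shiftFunctor _ (-n)).mapIso c ≪≫ (shiftEquiv (Dual.D Γ(X, V)) n).unitIso.symm.app _)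
        (isDualizing_shift hω (-n))
    have := gorenstein_of_isDualizing_self hd (hV.primeIdealOf ⟨x, hxV⟩)
    exact (gor_localization_iff_stalk hV hxV).1 this

end Groth.Agent.Dual3Gor7
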