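import Groth.Agent.Dual3Gor7.Dualizing
import Groth.Agent.AlgSpDec.GorAt
import Groth.Agent.KFlatLib.Ring.DualizingFibreRows
import Groth.Agent.KFlatLib.Ring.DualizingDescent
import Groth.Agent.KFlatLib.Scheme.LpullComp
import Groth.Agent.KFlatLib.Scheme.QCohDerived
import Groth.Agent.S1830
import Groth.Agent.ProjGen7.FlatBase

/-! Dualizing complexes and flat morphisms with Gorenstein fibres. -/

set_option autoImplicit false
set_option linter.style.haveILetI false
set_option backward.isDefEq.respectTransparency false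
set_option backward.isDefEq.respectTransparency.types false

universe u

open CategoryTheory CategoryTheory.Limits AlgebraicGeometry Groth.Agent.KFlatLib

attribute [local instance] HasDerivedCategory.standard

namespace Groth.Agent.Dual3Gor7

variable {X Y : Scheme.{u}}

section Chart

variable {A B : Type u} [CommRing A] [CommRing B] [Algebra A B]

theorem gorAt_spec_iff (q : ↥(Spec (CommRingCat.of B))) [Module.Flat A B] :
    Dual3.IsGorensteinAt (Spec.map (CommRingCat.ofHom (algebraMap A B))) q ↔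
      LocCoh.IsGorensteinLocalRing (Localization.AtPrime q.asIdeal ⧸
        (q.asIdeal.comap (algebraMap A B)).map (algebraMap A (Localization.AtPrime q.asIdeal))) := by
  let g := Spec.map (CommRingCat.ofHom (algebraMap A B))
  haveI : Flat g := (HasRingHomProperty.Spec_iff (P := @Flat)).2 (RingHom.flat_algebraMap_iff.2 ‹_›)
  rw [AlgSpDec.GorAt.gorAt_iff]
  let p := q.asIdeal.comap (algebraMap A B)
  let ψ : Localization.AtPrime p →+* Localization.AtPrime q.asIdeal :=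
    Localization.localRingHom p q.asIdeal (algebraMap A B) rfl
  have hcomp : ψ.comp (algebraMap A (Localization.AtPrime p)) = algebraMap A (Localization.AtPrime q.asIdeal) := by
    refine RingHom.ext fun x => ?_
    change Localization.localRingHom p q.asIdeal (algebraMap A B) rfl (algebraMap A (Localization.AtPrime p) x) = _
    rw [Localization.localRingHom_to_map]
    exact (IsScalarTower.algebraMap_apply A B (Localization.AtPrime q.asIdeal) x).symm
  let eB : (Spec (CommRingCat.of B)).presheaf.stalk q ≃+* Localization.AtPrime q.asIdeal :=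
    (StructureSheaf.stalkIso B q).toRingEquiv.symm
  let eA : (Spec (CommRingCat.of A)).presheaf.stalk (g q) ≃+* Localization.AtPrime p :=
    (StructureSheaf.stalkIso A (g q)).toRingEquiv.symm
  have hsq : ∀ z, eB ((g.stalkMap q).hom z) = ψ (eA z) := fun z => by
    obtain ⟨w, rfl⟩ := eA.symm.surjective z
    rw [RingEquiv.apply_symm_apply]
    have h := Scheme.localRingHom_comp_stalkIso (CommRingCat.ofHom (algebraMap A B)) q
    have h' := ConcreteCategory.congr_hom h (eA.symm w)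
    refine (congrArg eB h'.symm).trans ?_
    show eB (eB.symm (ψ (eA (eA.symm w)))) = ψ w
    rw [RingEquiv.apply_symm_apply, RingEquiv.apply_symm_apply]
  have hI : ((IsLocalRing.maximalIdeal ((Spec (CommRingCat.of A)).presheaf.stalk (g q))).map (g.stalkMap q).hom).map
      (eB : _ →+* Localization.AtPrime q.asIdeal) = p.map (algebraMap A (Localization.AtPrime q.asIdeal)) := by
    rw [Ideal.map_map, show (eB : _ →+* Localization.AtPrime q.asIdeal).comp (g.stalkMap q).hom =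
      ψ.comp (eA : _ →+* Localization.AtPrime p) from RingHom.ext hsq, ← Ideal.map_map]
    rw [show (IsLocalRing.maximalIdeal ((Spec (CommRingCat.of A)).presheaf.stalk (g q))).map
        (eA : _ →+* Localization.AtPrime p) = IsLocalRing.maximalIdeal (Localization.AtPrime p) from
        IsLocalRing.map_ringEquiv_maximalIdeal eA,
      ← Localization.AtPrime.map_eq_maximalIdeal (I := p), Ideal.map_map, hcomp]
  let e := Ideal.quotientEquiv _ _ eB hI.symm
  refine ⟨fun h => CurvLocusLib.gor_of_equiv e h.2, fun h => ⟨Flat.stalkMap g q, CurvLocusLib.gor_of_equiv e.symm h⟩⟩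

theorem gorAt_chart_iff (f : X ⟶ Y) (j : Spec (CommRingCat.of A) ⟶ Y) [IsOpenImmersion j]
    (k : Spec (CommRingCat.of B) ⟶ X) [IsOpenImmersion k]
    (h : k ≫ f = Spec.map (CommRingCat.ofHom (algebraMap A B)) ≫ j) (q : ↥(Spec (CommRingCat.of B))) [Module.Flat A B] :
    Dual3.IsGorensteinAt f (k q) ↔
      LocCoh.IsGorensteinLocalRing (Localization.AtPrime q.asIdeal ⧸
        (q.asIdeal.comap (algebraMap A B)).map (algebraMap A (Localization.AtPrime q.asIdeal))) := by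
  refine Iff.trans ?_ (gorAt_spec_iff q)
  refine (AlgSpDec.GorAt.gorAt_comp_left_iff k f q).symm.trans ?_
  refine Iff.trans (Iff.of_eq ?_) (AlgSpDec.GorAt.gorAt_comp_right_iff (Spec.map (CommRingCat.ofHom (algebraMap A B))) j q)
  rw [h]

variable [∀ (R : CommRingCat.{u}), PreservesFiniteLimits (tilde.functor R)]

theorem nonempty_lpull_chart (f : X ⟶ Y) [DCoh.HasLpull f] (j : Spec (CommRingCat.of A) ⟶ Y) [IsOpenImmersion j]
    (k : Spec (CommRingCat.of B) ⟶ X) [IsOpenImmersion k]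
    (h : k ≫ f = Spec.map (CommRingCat.ofHom (algebraMap A B)) ≫ j) [DRing.HasLBaseChange (algebraMap A B)]
    {K : DCoh.D Y} {ω : Dual.D A} (e : (rho j).obj K ≅ (DCoh.tildeD (CommRingCat.of A)).obj ω) :
    Nonempty ((rho k).obj ((DCoh.Lpull f).obj K) ≅
      (DCoh.tildeD (CommRingCat.of B)).obj ((DRing.LBaseChange (algebraMap A B)).obj ω)) := by
  let g := Spec.map (CommRingCat.ofHom (algebraMap A B))
  haveI := KFlatLib.hasLpull k
  haveI := KFlatLib.hasLpull j
  haveI := KFlatLib.hasLpull g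
  haveI := KFlatLib.hasLpull (k ≫ f)
  haveI := KFlatLib.hasLpull (g ≫ j)
  obtain ⟨c1⟩ := nonempty_lpull_comp k f
  obtain ⟨c2⟩ := nonempty_lpull_comp g j
  obtain ⟨t⟩ := nonempty_tildeD_lpull_iso (algebraMap A B)
  have key : ∀ (m : Spec (CommRingCat.of B) ⟶ Y) [DCoh.HasLpull m], m = g ≫ j →
      Nonempty ((DCoh.Lpull m).obj K ≅ (DCoh.Lpull (g ≫ j)).obj K) := by
    intro m _ hm
    subst hm
    exact ⟨Iso.refl _⟩
  obtain ⟨c⟩ := key (k ≫ f) h
  exact ⟨rhoLpullIso k _ ≪≫ c1.app K ≪≫ c ≪≫ (c2.app K).symm ≪≫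
    (DCoh.Lpull g).mapIso ((rhoLpullIso j K).symm ≪≫ e) ≪≫ (t.app ω).symm⟩

end Chart

section Sch

theorem gorMor_of_flat_lci (f : X ⟶ Y) [Flat f] [IsLocallyNoetherian Y] (hf : Dual3.IsLCIMor f) :
    LocallyOfFiniteType f ∧ Dual3.IsGorensteinMor f := by
  refine ⟨(HasRingHomProperty.iff_exists_appLE (P := @LocallyOfFiniteType) (RingHom.finiteType_stableUnderComposition.stableUnderCompositionWithLocalizationAway RingHom.finiteType_holdsForLocalizationAway).left).2 fun x => ?_, fun x => ?_⟩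
  · obtain ⟨U, V, e, hx, hl⟩ := hf x
    refine ⟨V, U, hx, e, ?_⟩
    letI := (f.appLE V.1 U.1 e).hom.toAlgebra
    exact hl.1
  · obtain ⟨U, V, e, hx, hl⟩ := hf x
    letI := (f.appLE V.1 U.1 e).hom.toAlgebra
    haveI : IsNoetherianRing Γ(Y, V.1) := IsLocallyNoetherian.component_noetherian V
    haveI : Algebra.FiniteType Γ(Y, V.1) Γ(X, U.1) := hl.1
    haveI : IsNoetherianRing Γ(X, U.1) := Algebra.FiniteType.isNoetherianRing Γ(Y, V.1) _
    haveI : Module.Flat Γ(Y, V.1) Γ(X, U.1) := HasRingHomProperty.appLE @Flat f ‹Flat f› V U e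
    have h : U.2.fromSpec ≫ f = Spec.map (CommRingCat.ofHom (algebraMap Γ(Y, V.1) Γ(X, U.1))) ≫ V.2.fromSpec :=
      (IsAffineOpen.SpecMap_appLE_fromSpec f V.2 U.2 e).symm
    have key := (gorAt_chart_iff f V.2.fromSpec U.2.fromSpec h (U.2.primeIdealOf ⟨x, hx⟩)).2 (LC.fibLoc_of_fiber _ fun p _ => LC.gorensteinRing_of_ringEquiv
      (Algebra.TensorProduct.comm Γ(Y, V.1) Γ(X, U.1) p.ResidueField).toRingEquiv
      (Groth.Agent.S1830.result Γ(Y, V.1) Γ(X, U.1) hl ⟨p, inferInstance⟩))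
    rwa [U.2.fromSpec_primeIdealOf] at key

variable [∀ (R : CommRingCat.{u}), PreservesFiniteLimits (tilde.functor R)]
variable [∀ (U : Scheme.{u}) (j : U ⟶ X) [IsOpenImmersion j], PreservesFiniteLimits (Scheme.Modules.restrictFunctor j)]
  [∀ (U : Scheme.{u}) (j : U ⟶ Y) [IsOpenImmersion j], PreservesFiniteLimits (Scheme.Modules.restrictFunctor j)]
variable (f : X ⟶ Y) [IsLocallyNoetherian Y] [Flat f] [LocallyOfFiniteType f] [DCoh.HasLpull f]

theorem isDualizingSch_lpull (hf : Dual3.IsGorensteinMor f) {K : DCoh.D Y} (hK : Dual2.IsDualizingSch Y K) :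
    Dual2.IsDualizingSch X ((DCoh.Lpull f).obj K) := by
  haveI : IsLocallyNoetherian X := LocallyOfFiniteType.isLocallyNoetherian f
  have key : ∀ x : X, ∃ (U : X.affineOpens), x ∈ U.1 ∧ ∃ ω : Dual.D Γ(X, U.1), Dual.IsDualizing Γ(X, U.1) ω ∧
      Nonempty ((rho U.2.fromSpec).obj ((DCoh.Lpull f).obj K) ≅ (DCoh.tildeD Γ(X, U.1)).obj ω) := by
    intro x
    obtain ⟨_, ⟨V, hV, rfl⟩, hxV, -⟩ := Y.isBasis_affineOpens.exists_subset_of_mem_open (Set.mem_univ (f x)) isOpen_univ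
    obtain ⟨_, ⟨U, hU, rfl⟩, hxU, hUV⟩ := X.isBasis_affineOpens.exists_subset_of_mem_open (a := x) (u := (f ⁻¹ᵁ V : Set X)) hxV (f ⁻¹ᵁ V).2
    refine ⟨⟨U, hU⟩, hxU, ?_⟩
    letI := (f.appLE V U hUV).hom.toAlgebra
    haveI : IsNoetherianRing Γ(Y, V) := IsLocallyNoetherian.component_noetherian ⟨V, hV⟩
    haveI : Algebra.FiniteType Γ(Y, V) Γ(X, U) := HasRingHomProperty.appLE @LocallyOfFiniteType f ‹_› ⟨V, hV⟩ ⟨U, hU⟩ hUV
    haveI : Module.Flat Γ(Y, V) Γ(X, U) := HasRingHomProperty.appLE @Flat f ‹_› ⟨V, hV⟩ ⟨U, hU⟩ hUV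
    haveI : IsNoetherianRing Γ(X, U) := Algebra.FiniteType.isNoetherianRing Γ(Y, V) _
    have h : hU.fromSpec ≫ f = Spec.map (CommRingCat.ofHom (algebraMap Γ(Y, V) Γ(X, U))) ≫ hV.fromSpec :=
      (IsAffineOpen.SpecMap_appLE_fromSpec f hV hU hUV).symm
    obtain ⟨ω, hω, ⟨e⟩⟩ := hK Γ(Y, V) hV.fromSpec
    haveI : DRing.HasLBaseChange (algebraMap Γ(Y, V) Γ(X, U)) := H9Misc.DRingLBase.hasLBaseChange _
    haveI := KFlatLib.hasLBase (algebraMap Γ(Y, V) Γ(X, U))
    obtain ⟨eL⟩ := KFlatLib.nonempty_LBaseChange_iso (algebraMap Γ(Y, V) Γ(X, U))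
    refine ⟨_, isDualizing_of_iso (eL.app ω).symm (isDualizing_LBase_of_gorenstein_fibres hω
      (ringKrullDim_lt_top_of_finiteType (ringKrullDim_lt_top_of_isDualizing hω)) fun q =>
        (gorAt_chart_iff f hV.fromSpec hU.fromSpec h q).1 (hf _)),
      nonempty_lpull_chart f hV.fromSpec hU.fromSpec h e⟩
  choose U hU ω hω e using key
  exact DualCover7.isDualizingSch_of_cover _ X (fun x => Γ(X, (U x).1)) (fun x => (U x).2.fromSpec)
    (fun x => ⟨x, by rw [(U x).2.range_fromSpec]; exact hU x⟩) (fun x => ⟨ω x, hω x, e x⟩)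

theorem isDualizingSch_of_lpull [Surjective f] {K : DCoh.D Y}
    (hKq : DCoh.IsQCohD K) (hK : Dual2.IsDualizingSch X ((DCoh.Lpull f).obj K)) :
    Dual2.IsDualizingSch Y K := by
  haveI : IsLocallyNoetherian X := LocallyOfFiniteType.isLocallyNoetherian f
  haveI : LocallyOfFinitePresentation f := ProjGen7.lfp_of_lft f
  intro A _ j _
  haveI : IsLocallyNoetherian (Spec (CommRingCat.of A)) := isLocallyNoetherian_of_isOpenImmersion j
  haveI : IsNoetherianRing A := (isLocallyNoetherian_Spec (R := CommRingCat.of A)).1 inferInstance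
  obtain ⟨ω, ⟨e⟩⟩ := exists_tildeD_iso (DualCover7.isQCohD_rho j hKq)
  refine ⟨ω, ?_, ⟨e.symm⟩⟩
  have hex : ∀ p : Spec (CommRingCat.of A), ∃ (U : X.affineOpens), U.1 ≤ f ⁻¹ᵁ j.opensRange ∧ ∃ x ∈ U.1, f x = j p := by
    intro p
    obtain ⟨x, hx⟩ := f.surjective (j p)
    obtain ⟨_, ⟨U, hU, rfl⟩, hxU, hUV⟩ := X.isBasis_affineOpens.exists_subset_of_mem_open (a := x)
      (u := (f ⁻¹ᵁ j.opensRange : Set X)) (show f x ∈ j.opensRange by rw [hx]; exact ⟨p, rfl⟩) (f ⁻¹ᵁ j.opensRange).2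
    exact ⟨⟨U, hU⟩, hUV, x, hxU, hx⟩
  choose U hU x hxU hx using hex
  obtain ⟨s, hs⟩ := isCompact_univ.elim_finite_subcover (fun p : Spec (CommRingCat.of A) => j ⁻¹' (f '' ((U p).1 : Set X)))
    (fun p => (f.isOpenMap _ (U p).1.2).preimage j.continuous) (fun p _ => Set.mem_iUnion.2 ⟨p, x p, hxU p, hx p⟩)
  let φ : ∀ p, A →+* Γ(X, (U p).1) := fun p =>
    (Spec.preimage (IsOpenImmersion.lift j ((U p).2.fromSpec ≫ f) (by
      rintro _ ⟨z, rfl⟩
      exact hU p ((U p).2.range_fromSpec.le ⟨z, rfl⟩)))).hom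
  have hφ : ∀ p, (U p).2.fromSpec ≫ f = Spec.map (CommRingCat.ofHom (φ p)) ≫ j := fun p => by
    rw [show Spec.map (CommRingCat.ofHom (φ p)) = IsOpenImmersion.lift j ((U p).2.fromSpec ≫ f) _ from
      Spec.map_preimage _, IsOpenImmersion.lift_fac]
  letI alg : ∀ i : s, Algebra A Γ(X, (U i.1).1) := fun i => (φ i.1).toAlgebra
  haveI flat : ∀ i : s, Module.Flat A Γ(X, (U i.1).1) := fun i => by
    haveI : Flat (Spec.map (CommRingCat.ofHom (φ i.1)) ≫ j) := by rw [← hφ]; infer_instance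
    haveI : Flat (Spec.map (CommRingCat.ofHom (φ i.1))) := (Flat.iff_flat_stalkMap _).2 fun z =>
      (AlgSpDec.GorAt.flatAt_comp_right_iff' _ j z).1 (Flat.stalkMap (Spec.map (CommRingCat.ofHom (φ i.1)) ≫ j) z)
    exact (HasRingHomProperty.Spec_iff (P := @Flat) (φ := CommRingCat.ofHom (φ i.1))).1 inferInstance
  haveI : ∀ i : s, IsNoetherianRing Γ(X, (U i.1).1) := fun i => IsLocallyNoetherian.component_noetherian (U i.1)
  haveI : ∀ i : s, DTen.HasLBase (algebraMap A Γ(X, (U i.1).1)) := fun i => KFlatLib.hasLBase _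
  haveI : ∀ i : s, DRing.HasLBaseChange (algebraMap A Γ(X, (U i.1).1)) := fun i => H9Misc.DRingLBase.hasLBaseChange _
  refine isDualizing_of_finite_family (ι := s) (B := fun i => Γ(X, (U i.1).1)) (fun m hm => ?_) fun i => ?_
  · obtain ⟨p, hp, z, hz, hzm⟩ : ∃ p ∈ s, (⟨m, hm.isPrime⟩ : Spec (CommRingCat.of A)) ∈ j ⁻¹' (f '' ((U p).1 : Set X)) := by
      simpa using hs (Set.mem_univ (⟨m, hm.isPrime⟩ : Spec (CommRingCat.of A)))
    refine ⟨⟨p, hp⟩, fun htop => ?_⟩
    obtain ⟨q, rfl⟩ : z ∈ Set.range (U p).2.fromSpec.base := (U p).2.range_fromSpec.ge hz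
    have h1 : (Spec.map (CommRingCat.ofHom (φ p))) q = (⟨m, hm.isPrime⟩ : Spec (CommRingCat.of A)) := by
      refine j.isOpenEmbedding.injective ?_
      rw [← hzm]
      show (Spec.map (CommRingCat.ofHom (φ p)) ≫ j) q = ((U p).2.fromSpec ≫ f) q
      rw [hφ p]; rfl
    have h2 : q.asIdeal.comap (φ p) = m := congrArg PrimeSpectrum.asIdeal h1
    exact q.isPrime.ne_top (top_le_iff.1 (htop ▸ Ideal.map_le_iff_le_comap.2 h2.ge))
  · obtain ⟨ω', hω', ⟨e'⟩⟩ := hK Γ(X, (U i.1).1) (U i.1).2.fromSpec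
    obtain ⟨t⟩ := nonempty_lpull_chart f j (U i.1).2.fromSpec (hφ i.1) e.symm
    obtain ⟨c⟩ := DualCover7.nonempty_iso_of_tilde Γ(X, (U i.1).1) (t.symm ≪≫ e')
    obtain ⟨eL⟩ := KFlatLib.nonempty_LBaseChange_iso (algebraMap A Γ(X, (U i.1).1))
    exact isDualizing_of_iso ((eL.app ω).symm ≪≫ c).symm hω'

end Sch

end Groth.Agent.Dual3Gor7
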