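import Groth.Agent.Dual3Gor7.Dualizing
import Groth.Agent.PerfGen7.TorAmpTilde
import Groth.Agent.KFlatLib.Scheme.CohD
import Groth.Agent.S11360
import Groth.Agent.S11327
import Groth.Agent.SheafHomX.Coherent

/-! Dualizing complexes recognised on stalks. -/

set_option autoImplicit false
set_option linter.style.haveILetI false
set_option backward.isDefEq.respectTransparency false
set_option backward.isDefEq.respectTransparency.types false

universe u

open CategoryTheory CategoryTheory.Limits AlgebraicGeometry Groth.Agent.KFlatLib Groth.Agent.H9Misc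
  Groth.Agent.H9Misc.DRingLTensor Groth.Agent.PerfGen7.RelTor Groth.Agent.PerfGen7.TorAmpBC

attribute [local instance] HasDerivedCategory.standard

namespace Groth.Agent.Dual3Gor7

variable {X : Scheme.{u}}

/-- Stalks of a restriction along an open immersion. -/
noncomputable def stalkRestrictIso {U : Scheme.{u}} (j : U ⟶ X) [IsOpenImmersion j] (p : U)
    (F : CochainComplex X.Modules ℤ) :
    (KFlatLib.stalkCx p).obj (((Scheme.Modules.restrictFunctor j).mapHomologicalComplex (ComplexShape.up ℤ)).obj F) ≅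
      (extC' (j.stalkMap p).hom).obj ((KFlatLib.stalkCx (j.base p)).obj F) :=
  HomologicalComplex.Hom.isoOfComponents
    (fun i => (Functor.isoWhiskerRight (Scheme.Modules.restrictFunctorIsoPullback j) (DerSch.stalkFunctor U p) ≪≫
      stalkPullbackIso j p).app (F.X i))
    (fun i k _ => ((Functor.isoWhiskerRight (Scheme.Modules.restrictFunctorIsoPullback j) (DerSch.stalkFunctor U p) ≪≫
      stalkPullbackIso j p).hom.naturality (F.d i k)).symm)

/-- Over the identity the stalk complex is the stalk complex. -/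
noncomputable def stalkCxOverIdIso (x : X) (F : CochainComplex X.Modules ℤ) :
    (DerSch.stalkCxOver (𝟙 X) x).obj F ≅ (KFlatLib.stalkCx x).obj F :=
  Groth.Agent.PerfGen7.RelTor.stalkCxOverIso (𝟙 X) x F ≪≫
    HomologicalComplex.Hom.isoOfComponents
      (fun i => (ModuleCat.restrictScalarsId' ((𝟙 X : X ⟶ X).stalkMap x).hom
        (by rw [Scheme.Hom.stalkMap_id]; rfl)).app (((KFlatLib.stalkCx x).obj F).X i))
      (fun i k _ => ((ModuleCat.restrictScalarsId' ((𝟙 X : X ⟶ X).stalkMap x).hom
        (by rw [Scheme.Hom.stalkMap_id]; rfl)).hom.naturality (((KFlatLib.stalkCx x).obj F).d i k)).symm)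

/-- Derived base change along a flat map is termwise. -/
theorem nonempty_LBase_Q {A B : Type u} [CommRing A] [CommRing B] (φ : A →+* B) [DTen.HasLBase φ]
    (hφ : φ.Flat) (C : DRing.Cx A) :
    Nonempty ((DTen.LBase φ).obj (DerivedCategory.Q.obj C) ≅ DerivedCategory.Q.obj ((extC' φ).obj C)) := by
  letI := φ.toAlgebra
  haveI : Module.Flat A B := RingHom.flat_algebraMap_iff.1 hφ
  haveI : DTen.HasLBase (algebraMap A B) := ‹DTen.HasLBase φ›
  obtain ⟨_, ⟨e⟩⟩ := exists_LBase_map_iso (A := A) (B := B) (DerivedCategory.Q.obj C)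
  exact ⟨e ≪≫ (ModuleCat.extendScalars.{u, u, u} (algebraMap A B)).mapDerivedCategoryFactors.app C⟩

/-- Dualizing complexes move along ring isomorphisms. -/
theorem isDualizing_ext_of_bijective {A B : Type u} [CommRing A] [CommRing B] (φ : A →+* B)
    (hφ : Function.Bijective φ) (C : DRing.Cx A) (hC : Dual.IsDualizing A (DerivedCategory.Q.obj C)) :
    Dual.IsDualizing B (DerivedCategory.Q.obj ((extC' φ).obj C)) := by
  haveI := hC.isNoetherianRing
  haveI := KFlatLib.hasLBase φ
  letI := φ.toAlgebra
  haveI : IsNoetherianRing B := isNoetherianRing_of_surjective A B φ hφ.2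
  haveI : Module.Flat A B := RingHom.flat_algebraMap_iff.1 (RingHom.Flat.of_bijective (f := φ) hφ)
  obtain ⟨e⟩ := nonempty_LBase_Q φ (RingHom.Flat.of_bijective hφ) C
  exact isDualizing_of_iso e (isDualizing_LBase (A := A) (B := B) hC fun n _ =>
    ⟨n.comap φ, Ideal.map_comap_of_surjective φ hφ.2 n⟩)

variable (A : CommRingCat.{u}) [PreservesFiniteLimits (tilde.functor A)]

/-- A K-injective complex with quasi-coherent cohomology is the tilde of its sections. -/
theorem exists_iso_gamma (I : CochainComplex (Spec A).Modules ℤ) [I.IsKInjective] {ω : Dual.D A}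
    (t : (DCoh.tildeD A).obj ω ≅ DerivedCategory.Q.obj I) :
    Nonempty (ω ≅ DerivedCategory.Q.obj (gammaCx.obj I)) := by
  obtain ⟨η, hη⟩ := (adj_bijective ω I).2 t.hom
  simp only at hη
  haveI : IsIso η := isIso_of_bijective_single η fun n => by
    have hA := adj_bijective ((DerivedCategory.singleFunctor (ModuleCat.{u} A) n).obj (ModuleCat.of A A)) I
    have hb := tildeD_map_bijective_single (R := A) n ω
    refine ⟨fun a b hab => hb.1 ((cancel_mono t.hom).1 ?_), fun c => ?_⟩
    · have := congrArg (fun z => (DCoh.tildeD A).map z ≫ counitQ I) hab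
      simpa only [Functor.map_comp, Category.assoc, hη] using this
    · obtain ⟨a, ha⟩ := hb.2 (((DCoh.tildeD A).map c ≫ counitQ I) ≫ t.inv)
      refine ⟨a, hA.1 ?_⟩
      simp only [Functor.map_comp, Category.assoc, hη, ha, Iso.inv_hom_id, Category.comp_id]
  exact ⟨asIso η⟩

variable {A}
variable [∀ (U : Scheme.{u}) (j : U ⟶ X) [IsOpenImmersion j], PreservesFiniteLimits (Scheme.Modules.restrictFunctor j)]
variable [∀ (R : CommRingCat.{u}), PreservesFiniteLimits (tilde.functor R)]

theorem isDualizingSch_of_stalks [IsNoetherian X] (I : CochainComplex X.Modules ℤ)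
    (hIinj : ∀ i : ℤ, Injective (I.X i))
    (hIbdd : ∃ a b : ℤ, ∀ i : ℤ, (i < a ∨ b < i) → IsZero (I.X i))
    (hcoh : ∀ i : ℤ, Coh.IsCoh (DCoh.HD (DCoh.toD X I) i))
    (hst : ∀ x : X, Dual.IsDualizing (X.presheaf.stalk ((𝟙 X : X ⟶ X).base x))
      (DRing.toD ((DerSch.stalkCxOver (𝟙 X) x).obj I))) :
    Dual2.IsDualizingSch X (DCoh.toD X I) := by
  intro B _ j _
  obtain ⟨a, b, hab⟩ := hIbdd
  let R : CommRingCat.{u} := CommRingCat.of B
  haveI : IsLocallyNoetherian (Spec R) := isLocallyNoetherian_of_isOpenImmersion j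
  haveI : IsNoetherianRing B := (isLocallyNoetherian_Spec (R := R)).1 inferInstance
  let J := ((Scheme.Modules.restrictFunctor j).mapHomologicalComplex (ComplexShape.up ℤ)).obj I
  let eJ : (rho j).obj (DCoh.toD X I) ≅ DerivedCategory.Q.obj J :=
    (Scheme.Modules.restrictFunctor j).mapDerivedCategoryFactors.app I
  haveI : ∀ i : ℤ, Injective (J.X i) := fun i => by
    haveI := hIinj i
    haveI : (Groth.Agent.KFlatLib.lsh j).PreservesMonomorphisms := inferInstance
    exact Injective.injective_of_adjoint (Groth.Agent.KFlatLib.lshAdj j) (I.X i)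
  have hz : ∀ i : ℤ, (i < a ∨ b < i) → IsZero (J.X i) := fun i hi =>
    (Scheme.Modules.restrictFunctor j).map_isZero (hab i hi)
  haveI : CochainComplex.IsStrictlyGE J a := (CochainComplex.isStrictlyGE_iff _ _).2 fun i hi => hz i (Or.inl hi)
  haveI : CochainComplex.IsKInjective J := CochainComplex.isKInjective_of_injective J a
  have hcJ : DCoh.IsCohD ((rho j).obj (DCoh.toD X I)) := isCohD_rho j hcoh
  obtain ⟨ω, ⟨t⟩⟩ := exists_tildeD_iso (isCohD_isQCohD hcJ)
  refine ⟨ω, ?_, ⟨t.symm⟩⟩
  haveI : ∀ p : PrimeSpectrum B, DRing.HasLBaseChange (algebraMap B (Localization.AtPrime p.asIdeal)) :=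
    fun p => H9Misc.DRingLBase.hasLBaseChange _
  refine Groth.Agent.S11360.result B ω (fun i => ?_) ?_ fun p => ?_
  · haveI : (tilde.functor R).Additive := KFlatLib.tilde_additive _
    haveI : PreservesFiniteColimits (tilde.functor R) := QCoh.tilde_preservesFiniteColimits
    refine (isCoh_tilde_iff (R := R) ((DerivedCategory.homologyFunctor (ModuleCat.{u} R) i).obj ω)).1 ?_
    exact Groth.Agent.SheafHomX.isCoh_of_iso ((DerivedCategory.homologyFunctor (Spec R).Modules i).mapIso t.symm ≪≫
      (mapDCHomologyIso (tilde.functor R) i).app ω) (hcJ i)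
  · obtain ⟨e⟩ := exists_iso_gamma R J (t ≪≫ eJ)
    haveI : (tilde.functor R).Additive := KFlatLib.tilde_additive _
    haveI : (moduleSpecΓFunctor (R := R)).Additive := (tilde.adjunction (R := R)).right_adjoint_additive
    refine ⟨a, b, gammaCx.obj J, fun i hi => (moduleSpecΓFunctor (R := R)).map_isZero (hz i hi), fun i => ?_, ⟨e.symm⟩⟩
    haveI : (tilde.functor R).PreservesMonomorphisms := inferInstance
    haveI : Injective (ModuleCat.of B ((gammaCx.obj J).X i)) :=
      Injective.injective_of_adjoint (tilde.adjunction (R := R)) (J.X i)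
    exact Module.injective_module_of_injective_object B _
  · let x : Spec R := p
    let C := DerivedCategory.Q.objPreimage ω
    let eC : DerivedCategory.Q.obj C ≅ ω := DerivedCategory.Q.objObjPreimageIso ω
    let T := ((tilde.functor R).mapHomologicalComplex (ComplexShape.up ℤ)).obj C
    let eT : DerivedCategory.Q.obj T ≅ DerivedCategory.Q.obj J :=
      (tildeQ C).symm ≪≫ (DCoh.tildeD R).mapIso eC ≪≫ t ≪≫ eJ
    haveI : PreservesFiniteLimits (DerSch.stalkFunctor (Spec R) x) := inferInstance
    let eS : DerivedCategory.Q.obj ((KFlatLib.stalkCx x).obj T) ≅ DerivedCategory.Q.obj ((KFlatLib.stalkCx x).obj J) :=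
      ((DerSch.stalkFunctor (Spec R) x).mapDerivedCategoryFactors.app T).symm ≪≫
        (DerSch.stalkFunctor (Spec R) x).mapDerivedCategory.mapIso eT ≪≫
        (DerSch.stalkFunctor (Spec R) x).mapDerivedCategoryFactors.app J
    letI := (toStalkHom x).toAlgebra
    haveI := isLocalization_toStalkHom x
    let e : (Spec R).presheaf.stalk x ≃ₐ[R] Localization.AtPrime p.asIdeal :=
      IsLocalization.algEquiv x.asIdeal.primeCompl _ _
    let ε : (Spec R).presheaf.stalk x →+* Localization.AtPrime p.asIdeal := e.toRingEquiv.toRingHom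
    have he : ε.comp (toStalkHom x) = algebraMap B (Localization.AtPrime p.asIdeal) :=
      RingHom.ext fun r => e.commutes r
    let β : X.presheaf.stalk (j.base x) →+* Localization.AtPrime p.asIdeal := ε.comp (j.stalkMap x).hom
    have hβ : Function.Bijective β := e.bijective.comp (ConcreteCategory.bijective_of_isIso (j.stalkMap x))
    have h1 : Dual.IsDualizing (Localization.AtPrime p.asIdeal)
        (DerivedCategory.Q.obj ((extC' β).obj ((KFlatLib.stalkCx (j.base x)).obj I))) :=
      isDualizing_ext_of_bijective β hβ _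
        (isDualizing_of_iso (DerivedCategory.Q.mapIso (stalkCxOverIdIso (j.base x) I)) (hst (j.base x)))
    haveI := KFlatLib.hasLBase (algebraMap B (Localization.AtPrime p.asIdeal))
    haveI := KFlatLib.hasLBase ε
    obtain ⟨eL⟩ := KFlatLib.nonempty_LBaseChange_iso (algebraMap B (Localization.AtPrime p.asIdeal))
    have hfl : (algebraMap B (Localization.AtPrime p.asIdeal)).Flat :=
      RingHom.flat_algebraMap_iff.2 (IsLocalization.flat _ p.asIdeal.primeCompl)
    obtain ⟨l⟩ := nonempty_LBase_Q _ hfl C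
    obtain ⟨l1⟩ := nonempty_LBase_Q ε (RingHom.Flat.of_bijective e.bijective) ((KFlatLib.stalkCx x).obj T)
    obtain ⟨l2⟩ := nonempty_LBase_Q ε (RingHom.Flat.of_bijective e.bijective) ((KFlatLib.stalkCx x).obj J)
    let eSt : (KFlatLib.stalkCx x).obj T ≅ (extC' (toStalkHom x)).obj C :=
      (NatIso.mapHomologicalComplex (stalkTildeIso x) (ComplexShape.up ℤ)).app C
    let k : (DRing.LBaseChange (algebraMap B (Localization.AtPrime p.asIdeal))).obj ω ≅
        DerivedCategory.Q.obj ((extC' β).obj ((KFlatLib.stalkCx (j.base x)).obj I)) :=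
      eL.app ω ≪≫ (DTen.LBase _).mapIso eC.symm ≪≫ l ≪≫
        DerivedCategory.Q.mapIso (extCompIso he C ≪≫ (extC' ε).mapIso eSt.symm) ≪≫ l1.symm ≪≫
        (DTen.LBase ε).mapIso eS ≪≫ l2 ≪≫
        DerivedCategory.Q.mapIso ((extC' ε).mapIso (stalkRestrictIso j x I) ≪≫
          (extCompIso (φ := (j.stalkMap x).hom) (ψ := ε) (θ := β) rfl _).symm)
    exact isDualizing_of_iso k.symm h1

end Groth.Agent.Dual3Gor7
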